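import Cfsg.Agent.Lib.Coprime.SchurZassenhaus

/-!
Hall's theorems in finite solvable groups: existence, conjugacy and dominance, in the form with an
order factorisation `m * k` and in the form with a set of primes.
-/

set_option autoImplicit false
set_option linter.style.haveILetI false
open Pointwise

namespace CfsgLib.Hall

open CfsgLib.Coprime

universe u

lemma card_comap_of_surjective {G G' : Type*} [Group G] [Group G'] (f : G →* G')
    (hf : Function.Surjective f) (H : Subgroup G') :
    Nat.card (H.comap f) = Nat.card H * Nat.card f.ker := by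
  have h := card_map_mul_inf_ker f (H.comap f)
  rw [Subgroup.map_comap_eq_self_of_surjective hf,
    inf_eq_left.2 (Subgroup.ker_le_comap f H)] at h
  exact h.symm

/-- Hall: existence together with dominance. -/
theorem exists_hall_dominating_aux : ∀ (n : ℕ) {G : Type u} [Group G] [Finite G] [Group.IsSolvable G],
    Nat.card G ≤ n → ∀ m k : ℕ, Nat.card G = m * k → m.Coprime k →
      ∃ H : Subgroup G, Nat.card H = m ∧
        ∀ U : Subgroup G, (Nat.card U).Coprime k → ∃ g : G, MulAut.conj g • U ≤ H := by
  intro n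
  induction n with
  | zero =>
    intro G _ _ _ hc
    exact absurd hc (by have := Nat.card_pos (α := G); omega)
  | succ n ih =>
    intro G _ _ _ hc m k hG hmk
    by_cases hnt : Nontrivial G
    swap
    · haveI : Subsingleton G := not_nontrivial_iff_subsingleton.1 hnt
      rw [Nat.card_of_subsingleton (1 : G)] at hG
      have hm : m = 1 := Nat.eq_one_of_mul_eq_one_right hG.symm
      exact ⟨⊤, by rw [Subgroup.card_top, hm, Nat.card_of_subsingleton (1 : G)],
        fun U _ => ⟨1, le_top⟩⟩
    obtain ⟨p, hp, M, hMn, hMp, hM⟩ := exists_normal_pgroup_of_solvable G inferInstance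
    haveI := Fact.mk hp
    obtain ⟨a, ha⟩ := hMp.exists_card_eq
    have ha0 : a ≠ 0 := fun h => hM (Subgroup.card_eq_one.1 (by rw [ha, h, pow_zero]))
    let f := QuotientGroup.mk' M
    have hfs : Function.Surjective f := QuotientGroup.mk'_surjective M
    have hker : f.ker = M := QuotientGroup.ker_mk' M
    have hq : Nat.card (G ⧸ M) * p ^ a = m * k := by
      rw [← hG, ← ha, ← M.index_mul_card]; rfl
    have hlt : Nat.card (G ⧸ M) ≤ n := by
      have h1 : 2 ≤ p ^ a := le_trans hp.two_le (Nat.le_self_pow ha0 p)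
      have h4 : 0 < Nat.card (G ⧸ M) := Nat.card_pos
      nlinarith
    have hdvd : p ^ a ∣ m * k := Dvd.intro_left _ hq
    rcases hp.dvd_mul.1 ((dvd_pow_self p ha0).trans hdvd) with hpm | hpk
    · obtain ⟨m', rfl⟩ : p ^ a ∣ m := by
        have hco : (p ^ a).Coprime k := by
          refine Nat.Coprime.pow_left _ ?_
          exact hmk.coprime_dvd_left hpm
        exact hco.dvd_of_dvd_mul_right hdvd
      have hcard : Nat.card (G ⧸ M) = m' * k := by
        apply Nat.eq_of_mul_eq_mul_left (Nat.pos_of_ne_zero (pow_ne_zero a hp.ne_zero))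
        linarith [hq]
      obtain ⟨H, hH, hdom⟩ := ih hlt m' k hcard (hmk.coprime_dvd_left (Dvd.intro_left _ rfl))
      refine ⟨H.comap f, ?_, fun U hU => ?_⟩
      · rw [card_comap_of_surjective f hfs, hker, hH, ha, mul_comm]
      · obtain ⟨y, hy⟩ := hdom (U.map f) (hU.coprime_dvd_left (Subgroup.card_map_dvd U f))
        obtain ⟨g, rfl⟩ := hfs y
        refine ⟨g, conj_smul_le.2 fun x hx => ?_⟩
        have h1 := conj_smul_le.1 hy (f x) (Subgroup.mem_map_of_mem f hx)
        rwa [← map_mul, ← map_inv, ← map_mul] at h1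
    · obtain ⟨k', rfl⟩ : p ^ a ∣ k := by
        have hco : (p ^ a).Coprime m := by
          refine Nat.Coprime.pow_left _ ?_
          exact hmk.symm.coprime_dvd_left hpk
        exact hco.dvd_of_dvd_mul_left hdvd
      have hcard : Nat.card (G ⧸ M) = m * k' := by
        apply Nat.eq_of_mul_eq_mul_left (Nat.pos_of_ne_zero (pow_ne_zero a hp.ne_zero))
        linarith [hq]
      obtain ⟨Hb, hHb, hdom⟩ := ih hlt m k' hcard (hmk.coprime_dvd_right (Dvd.intro_left _ rfl))
      let L := Hb.comap f
      have hL : Nat.card L = m * p ^ a := by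
        rw [card_comap_of_surjective f hfs, hker, hHb, ha]
      have hML : M ≤ L := by rw [← hker]; exact Subgroup.ker_le_comap f Hb
      have hidx : (M.subgroupOf L).index = m := by
        have h2 := (M.subgroupOf L).card_mul_index
        rw [card_subgroupOf hML, hL, ha, mul_comm m] at h2
        exact Nat.eq_of_mul_eq_mul_left (Nat.pos_of_ne_zero (pow_ne_zero a hp.ne_zero)) h2
      have hcop : (Nat.card (M.subgroupOf L)).Coprime (M.subgroupOf L).index := by
        rw [hidx, card_subgroupOf hML, ha]
        exact (hmk.coprime_dvd_right (dvd_mul_right _ k')).symm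
      obtain ⟨C, hC⟩ := Subgroup.exists_right_complement'_of_coprime hcop
      have hCm : Nat.card C = (M.subgroupOf L).index := card_eq_index_of_isComplement' hC
      refine ⟨C.map L.subtype, by rw [Subgroup.card_subtype, hCm, hidx], fun U hU => ?_⟩
      obtain ⟨y, hy⟩ := hdom (U.map f)
        ((hU.coprime_dvd_right (Dvd.intro_left _ rfl)).coprime_dvd_left (Subgroup.card_map_dvd U f))
      obtain ⟨g, rfl⟩ := hfs y
      have hUL : MulAut.conj g • U ≤ L := by
        refine conj_smul_le.2 fun x hx => ?_
        have h1 := conj_smul_le.1 hy (f x) (Subgroup.mem_map_of_mem f hx)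
        rwa [← map_mul, ← map_inv, ← map_mul] at h1
      obtain ⟨x, -, hx⟩ := exists_conj_le_complement (M.subgroupOf L) hcop C hCm
        ((MulAut.conj g • U).subgroupOf L)
        (by rw [card_subgroupOf hML, card_subgroupOf hUL, card_conj_smul, ha]
            exact (hU.coprime_dvd_right (dvd_mul_right _ k')).symm)
        (Or.inl inferInstance)
      refine ⟨(x : G) * g, conj_smul_le.2 fun z hz => ?_⟩
      have h1 : g * z * g⁻¹ ∈ MulAut.conj g • U := conj_smul_le.1 le_rfl z hz
      have h2 := conj_smul_le.1 hx ⟨g * z * g⁻¹, hUL h1⟩ h1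
      refine ⟨_, h2, ?_⟩
      simp [mul_assoc]

/-- Hall: in a finite solvable group of order `m * k` with `m`, `k` coprime there is a subgroup of
order `m` containing a conjugate of every subgroup of order prime to `k`. -/
theorem exists_hall_dominating {G : Type u} [Group G] [Finite G] [Group.IsSolvable G] {m k : ℕ}
    (hG : Nat.card G = m * k) (hmk : m.Coprime k) :
    ∃ H : Subgroup G, Nat.card H = m ∧
      ∀ U : Subgroup G, (Nat.card U).Coprime k → ∃ g : G, MulAut.conj g • U ≤ H :=
  exists_hall_dominating_aux _ le_rfl m k hG hmk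

theorem exists_subgroup_card {G : Type u} [Group G] [Finite G] [Group.IsSolvable G] {m k : ℕ}
    (hG : Nat.card G = m * k) (hmk : m.Coprime k) : ∃ H : Subgroup G, Nat.card H = m :=
  let ⟨H, hH, _⟩ := exists_hall_dominating hG hmk
  ⟨H, hH⟩

theorem conj_of_card {G : Type u} [Group G] [Finite G] [Group.IsSolvable G] {m k : ℕ}
    (hG : Nat.card G = m * k) (hmk : m.Coprime k) {H K : Subgroup G} (hH : Nat.card H = m)
    (hK : Nat.card K = m) : ∃ g : G, MulAut.conj g • H = K := by
  obtain ⟨B, hB, hdom⟩ := exists_hall_dominating hG hmk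
  obtain ⟨g₁, h₁⟩ := hdom H (hH ▸ hmk)
  obtain ⟨g₂, h₂⟩ := hdom K (hK ▸ hmk)
  refine ⟨g₂⁻¹ * g₁, ?_⟩
  rw [map_mul, mul_smul, conj_smul_eq_of_le h₁ (by rw [hH, hB]),
    ← conj_smul_eq_of_le h₂ (by rw [hK, hB]), map_inv, inv_smul_smul]

theorem exists_ge_card {G : Type u} [Group G] [Finite G] [Group.IsSolvable G] {m k : ℕ}
    (hG : Nat.card G = m * k) (hmk : m.Coprime k) {U : Subgroup G} (hU : (Nat.card U).Coprime k) :
    ∃ H : Subgroup G, Nat.card H = m ∧ U ≤ H := by
  obtain ⟨B, hB, hdom⟩ := exists_hall_dominating hG hmk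
  obtain ⟨g, h⟩ := hdom U hU
  refine ⟨MulAut.conj g⁻¹ • B, by rw [card_conj_smul, hB], ?_⟩
  rw [map_inv, Subgroup.subset_pointwise_smul_iff, inv_inv]
  exact h

end CfsgLib.Hall
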