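import Cfsg.Agent.Lib.Hall.Solvable
import Cfsg.Prelude.Def_OddOrderLocal

/-!
Hall subgroups for a set of primes (`Cfsg.IsPiHall`) in finite solvable groups.
-/

set_option autoImplicit false
set_option linter.style.haveILetI false
open Pointwise

namespace CfsgLib.Hall

open CfsgLib.Coprime

universe u

/-- A positive number splits as a `π`-number times a number with no prime factor in `π`. -/
lemma exists_pi_factorisation (π : Set ℕ) : ∀ n : ℕ, n ≠ 0 →
    ∃ m k : ℕ, n = m * k ∧ (∀ p : ℕ, p.Prime → p ∣ m → p ∈ π) ∧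
      ∀ p : ℕ, p.Prime → p ∈ π → ¬ p ∣ k := by
  intro n
  induction n using Nat.strongRecOn with
  | ind n ih =>
    intro hn
    by_cases h1 : n = 1
    · exact ⟨1, 1, by simp [h1], fun p hp h => absurd h hp.not_dvd_one,
        fun p hp _ => hp.not_dvd_one⟩
    obtain ⟨q, hq, n', rfl⟩ := Nat.exists_prime_and_dvd h1
    have hn' : n' ≠ 0 := by rintro rfl; simp at hn
    obtain ⟨m, k, rfl, hm, hk⟩ := ih n' (lt_mul_of_one_lt_left (Nat.pos_of_ne_zero hn') hq.one_lt) hn'
    by_cases hqπ : q ∈ π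
    · refine ⟨q * m, k, by ring, fun p hp h => ?_, hk⟩
      rcases hp.dvd_mul.1 h with h | h
      · rwa [(Nat.prime_dvd_prime_iff_eq hp hq).1 h]
      · exact hm p hp h
    · refine ⟨m, q * k, by ring, hm, fun p hp hpπ h => ?_⟩
      rcases hp.dvd_mul.1 h with h | h
      · exact hqπ ((Nat.prime_dvd_prime_iff_eq hp hq).1 h ▸ hpπ)
      · exact hk p hp hpπ h

lemma coprime_of_pi {π : Set ℕ} {m k : ℕ} (hm : ∀ p : ℕ, p.Prime → p ∣ m → p ∈ π)
    (hk : ∀ p : ℕ, p.Prime → p ∈ π → ¬ p ∣ k) : m.Coprime k :=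
  Nat.coprime_of_dvd fun p hp h1 h2 => hk p hp (hm p hp h1) h2

/-- A Hall `π`-subgroup has order coprime to its index. -/
lemma isPiHall_coprime {G : Type u} [Group G] {π : Set ℕ} {H : Subgroup G}
    (h : Cfsg.IsPiHall π H) : (Nat.card H).Coprime H.index :=
  coprime_of_pi h.1 h.2

lemma isPiHall_card_eq {G : Type u} [Group G] [Finite G] {π : Set ℕ} {H K : Subgroup G}
    (hH : Cfsg.IsPiHall π H) (hK : Cfsg.IsPiHall π K) : Nat.card H = Nat.card K := by
  refine Nat.dvd_antisymm ?_ ?_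
  · refine (coprime_of_pi hH.1 hK.2).dvd_of_dvd_mul_right ?_
    rw [K.card_mul_index]; exact H.card_subgroup_dvd_card
  · refine (coprime_of_pi hK.1 hH.2).dvd_of_dvd_mul_right ?_
    rw [H.card_mul_index]; exact K.card_subgroup_dvd_card

theorem exists_isPiHall {G : Type u} [Group G] [Finite G] [Group.IsSolvable G] (π : Set ℕ) :
    ∃ H : Subgroup G, Cfsg.IsPiHall π H := by
  obtain ⟨m, k, hG, hm, hk⟩ := exists_pi_factorisation π (Nat.card G) Nat.card_pos.ne'
  obtain ⟨H, hH⟩ := exists_subgroup_card hG (coprime_of_pi hm hk)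
  refine ⟨H, by rwa [hH], ?_⟩
  have hidx : H.index = k := by
    have h := H.card_mul_index
    rw [hH, hG] at h
    exact Nat.eq_of_mul_eq_mul_left (hH ▸ Nat.card_pos) h
  rwa [hidx]

theorem isPiHall_conj {G : Type u} [Group G] [Finite G] [Group.IsSolvable G] {π : Set ℕ}
    {H K : Subgroup G} (hH : Cfsg.IsPiHall π H) (hK : Cfsg.IsPiHall π K) :
    ∃ g : G, MulAut.conj g • H = K :=
  conj_of_card H.card_mul_index.symm (isPiHall_coprime hH) rfl (isPiHall_card_eq hH hK).symm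

/-- Every `π`-subgroup of a finite solvable group has a conjugate inside a given Hall `π`-subgroup. -/
theorem exists_conj_le_isPiHall {G : Type u} [Group G] [Finite G] [Group.IsSolvable G] {π : Set ℕ}
    {H U : Subgroup G} (hH : Cfsg.IsPiHall π H)
    (hU : ∀ p : ℕ, p.Prime → p ∣ Nat.card U → p ∈ π) : ∃ g : G, MulAut.conj g • U ≤ H := by
  obtain ⟨B, hB, hdom⟩ :=
    exists_hall_dominating H.card_mul_index.symm (isPiHall_coprime hH)
  obtain ⟨g, hg⟩ := hdom U (coprime_of_pi hU hH.2)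
  obtain ⟨x, hx⟩ := conj_of_card H.card_mul_index.symm (isPiHall_coprime hH) hB rfl
  refine ⟨x * g, ?_⟩
  rw [map_mul, mul_smul, ← hx]
  exact Subgroup.pointwise_smul_le_pointwise_smul_iff.2 hg

theorem exists_isPiHall_ge {G : Type u} [Group G] [Finite G] [Group.IsSolvable G] {π : Set ℕ}
    {U : Subgroup G} (hU : ∀ p : ℕ, p.Prime → p ∣ Nat.card U → p ∈ π) :
    ∃ H : Subgroup G, Cfsg.IsPiHall π H ∧ U ≤ H := by
  obtain ⟨B, hB⟩ := exists_isPiHall (G := G) π
  obtain ⟨H, hH, hle⟩ := exists_ge_card B.card_mul_index.symm (isPiHall_coprime hB)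
    (coprime_of_pi hU hB.2)
  refine ⟨H, ⟨fun p hp h => hB.1 p hp (hH ▸ h), ?_⟩, hle⟩
  have hidx : H.index = B.index := by
    have h := H.card_mul_index
    rw [hH, ← B.card_mul_index] at h
    exact Nat.eq_of_mul_eq_mul_left Nat.card_pos h
  rw [hidx]; exact hB.2

end CfsgLib.Hall
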