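import Cfsg.Agent.Lib.Characters.Burnside
import Cfsg.Agent.Lib.Solvable.ComplementSystem
import Cfsg.Agent.Lib.Solvable.Fitting
import Cfsg.Agent.Lib.Hall.Solvable
import Cfsg.Agent.Lib.PCore.Basic

/-!
# Wielandt's three subgroup criterion, the converse of Hall's theorem, Sylow systems
-/

set_option autoImplicit false
set_option linter.style.haveILetI false
open scoped Pointwise

namespace CfsgLib.Hall.Converse

universe u

theorem isSolvable_aux : ∀ (n : ℕ) {G : Type u} [Group G] [Finite G], Nat.card G = n →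
    ∀ H₁ H₂ H₃ : Subgroup G, Group.IsSolvable H₁ → Group.IsSolvable H₂ → Group.IsSolvable H₃ →
    (∀ g : G, ∃ x ∈ H₁, ∃ y ∈ H₂, g = x * y) → (∀ g : G, ∃ x ∈ H₁, ∃ y ∈ H₃, g = x * y) →
    H₂.index.Coprime H₃.index → Group.IsSolvable G := by
  intro n
  induction n using Nat.strong_induction_on with
  | _ n IH =>
  intro G _ _ hn H₁ H₂ H₃ h₁ h₂ h₃ h12 h13 hcop
  subst hn
  haveI := h₁
  by_cases hb : H₁ = ⊥
  · subst hb
    haveI := h₂
    refine Group.isSolvable_of_surjective (f := H₂.subtype) fun g => ?_
    obtain ⟨x, hx, y, hy, rfl⟩ := h12 g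
    rw [Subgroup.mem_bot.1 hx, one_mul]
    exact ⟨⟨y, hy⟩, rfl⟩
  haveI : Nontrivial H₁ := (Subgroup.nontrivial_iff_ne_bot H₁).2 hb
  obtain ⟨p, hp, -, hA⟩ := CfsgLib.Fitting.exists_pCore_ne_bot (G := H₁)
  haveI := Fact.mk hp
  haveI : (Cfsg.pCore p H₁).Normal := Cfsg.pCore_normal p H₁
  let A := (Cfsg.pCore p H₁).map H₁.subtype
  have key : ∀ K : Subgroup G, Group.IsSolvable K → (∀ g : G, ∃ x ∈ H₁, ∃ y ∈ K, g = x * y) →
      ¬ p ∣ K.index → Group.IsSolvable G := by
    intro K hK hfac hpK
    haveI := hK
    have hidx : (K.subgroupOf H₁).index = K.index := by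
      refine (Nat.card_congr (Equiv.ofBijective
        (Quotient.map' (fun x : H₁ => (x : G)) fun a b h => by
          rw [QuotientGroup.leftRel_apply] at h ⊢
          exact h) ⟨?_, ?_⟩))
      · intro u v
        refine Quotient.inductionOn₂' u v fun a b h => ?_
        exact QuotientGroup.eq.2 (QuotientGroup.eq.1
          (h : (QuotientGroup.mk (a : G) : G ⧸ K) = QuotientGroup.mk (b : G)) :)
      · intro z
        obtain ⟨g, rfl⟩ := QuotientGroup.mk_surjective z
        obtain ⟨x, hx, y, hy, rfl⟩ := hfac g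
        refine ⟨QuotientGroup.mk (⟨x, hx⟩ : H₁), ?_⟩
        show (QuotientGroup.mk x : G ⧸ K) = QuotientGroup.mk (x * y)
        rw [QuotientGroup.eq]
        simpa using hy
    have h0 : Cfsg.pCore p H₁ ≤ K.subgroupOf H₁ := by
      obtain ⟨S⟩ : Nonempty (Sylow p (K.subgroupOf H₁)) := inferInstance
      have hS : ¬ p ∣ ((S : Subgroup (K.subgroupOf H₁)).map (K.subgroupOf H₁).subtype).index := by
        rw [Subgroup.index_map_subtype]
        intro h
        rcases hp.dvd_mul.1 h with h | h
        · exact S.not_dvd_index h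
        · exact hpK (hidx ▸ h)
      have h1 := CfsgLib.PCore.pCore_le_sylow ((S.isPGroup'.map _).toSylow hS)
      exact h1.trans (Subgroup.map_subtype_le _)
    have hAK : A ≤ K := by
      rintro _ ⟨a, ha, rfl⟩
      exact Subgroup.mem_subgroupOf.1 (h0 ha)
    let N := Subgroup.normalClosure (A : Set G)
    have hN : N ≤ K := by
      refine (Subgroup.closure_le K).2 fun z hz => ?_
      obtain ⟨a, ha, hconj⟩ := Group.mem_conjugatesOfSet_iff.1 hz
      obtain ⟨g, rfl⟩ := isConj_iff.1 hconj
      obtain ⟨x, hx, y, hy, e⟩ := hfac g⁻¹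
      obtain ⟨a, ha', rfl⟩ := ha
      have hxa : x⁻¹ * (a : G) * x ∈ K := by
        refine hAK ⟨(⟨x, hx⟩ : H₁)⁻¹ * a * ⟨x, hx⟩, ?_, rfl⟩
        have := Subgroup.Normal.conj_mem (inferInstance : (Cfsg.pCore p H₁).Normal) a ha'
          (⟨x, hx⟩ : H₁)⁻¹
        simpa using this
      have hg : g = y⁻¹ * x⁻¹ := by rw [← inv_inv g, e, mul_inv_rev]
      show g * (a : G) * g⁻¹ ∈ K
      rw [hg, show y⁻¹ * x⁻¹ * (a : G) * (y⁻¹ * x⁻¹)⁻¹ = y⁻¹ * (x⁻¹ * (a : G) * x) * y by group]
      exact mul_mem (mul_mem (inv_mem hy) hxa) hy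
    have hNne : N ≠ ⊥ := by
      intro h
      apply hA
      have h2 : A = ⊥ := le_bot_iff.1 (h ▸ Subgroup.le_normalClosure)
      exact (Subgroup.map_eq_bot_iff_of_injective _ H₁.subtype_injective).1 h2
    haveI : Group.IsSolvable N :=
      Group.isSolvable_of_isSolvable_injective (f := Subgroup.inclusion hN) (Subgroup.inclusion_injective hN)
    let q := QuotientGroup.mk' N
    have hqs : Function.Surjective q := QuotientGroup.mk'_surjective N
    haveI : Group.IsSolvable (G ⧸ N) := by
      refine IH (Nat.card (G ⧸ N)) ?_ rfl (H₁.map q) (H₂.map q) (H₃.map q)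
        (Group.isSolvable_of_surjective (f := q.subgroupMap H₁) (q.subgroupMap_surjective H₁))
        (haveI := h₂; Group.isSolvable_of_surjective (f := q.subgroupMap H₂) (q.subgroupMap_surjective H₂))
        (haveI := h₃; Group.isSolvable_of_surjective (f := q.subgroupMap H₃) (q.subgroupMap_surjective H₃))
        ?_ ?_ ?_
      · have h1 := N.card_mul_index
        have h2 := (Subgroup.one_lt_card_iff_ne_bot N).2 hNne
        have h3 : 0 < Nat.card (G ⧸ N) := Nat.card_pos
        rw [Subgroup.index] at h1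
        nlinarith
      · intro z
        obtain ⟨g, rfl⟩ := hqs z
        obtain ⟨x, hx, y, hy, rfl⟩ := h12 g
        exact ⟨q x, Subgroup.mem_map_of_mem q hx, q y, Subgroup.mem_map_of_mem q hy, map_mul q x y⟩
      · intro z
        obtain ⟨g, rfl⟩ := hqs z
        obtain ⟨x, hx, y, hy, rfl⟩ := h13 g
        exact ⟨q x, Subgroup.mem_map_of_mem q hx, q y, Subgroup.mem_map_of_mem q hy, map_mul q x y⟩
      · exact (hcop.coprime_dvd_left (H₂.index_map_dvd hqs)).coprime_dvd_right
          (H₃.index_map_dvd hqs)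
    exact (Group.isSolvable_iff_subgroup_quotient N).2 ⟨inferInstance, inferInstance⟩
  by_cases hp2 : p ∣ H₂.index
  · exact key H₃ h₃ h13 fun h => hp.not_dvd_one (hcop ▸ Nat.dvd_gcd hp2 h)
  · exact key H₂ h₂ h12 hp2

/-- Wielandt: `G = H₁H₂ = H₁H₃`, all solvable, `[G:H₂]` prime to `[G:H₃]`. -/
theorem isSolvable_of_three {G : Type u} [Group G] [Finite G] (H₁ H₂ H₃ : Subgroup G)
    (h₁ : Group.IsSolvable H₁) (h₂ : Group.IsSolvable H₂) (h₃ : Group.IsSolvable H₃)
    (h12 : ∀ g : G, ∃ x ∈ H₁, ∃ y ∈ H₂, g = x * y) (h13 : ∀ g : G, ∃ x ∈ H₁, ∃ y ∈ H₃, g = x * y)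
    (hcop : H₂.index.Coprime H₃.index) : Group.IsSolvable G :=
  isSolvable_aux _ rfl H₁ H₂ H₃ h₁ h₂ h₃ h12 h13 hcop

/-- Two complements at different primes have coprime index. -/
theorem coprime_pow_index {p q : ℕ} (hp : p.Prime) (hq : q.Prime) (h : p ≠ q) (a b : ℕ) :
    (p ^ a).Coprime (q ^ b) :=
  ((Nat.coprime_primes hp hq).2 h).pow a b

/-- A subgroup meets a complement of another prime in a complement of it. -/
theorem index_inf_subgroupOf {G : Type u} [Group G] [Finite G] {p q : ℕ} (hp : p.Prime)
    (hq : q.Prime) (hne : p ≠ q) {H K : Subgroup G}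
    (hH : H.index = p ^ (Nat.card G).factorization p) (hK : K.index = q ^ (Nat.card G).factorization q) :
    (K.subgroupOf H).index = q ^ (Nat.card H).factorization q := by
  have hcop : H.index.Coprime K.index := by rw [hH, hK]; exact coprime_pow_index hp hq hne _ _
  have h1 := (CfsgLib.ComplementSystem.coprime_index_product hcop).1
  have h2 : (K.subgroupOf H).index * H.index = (H ⊓ K).index := by
    rw [← Subgroup.relIndex_mul_index (inf_le_left : H ⊓ K ≤ H), Subgroup.inf_relIndex_left]
    rfl
  have h3 : (K.subgroupOf H).index = K.index := by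
    have hpos : 0 < H.index := Nat.pos_of_ne_zero Subgroup.index_ne_zero_of_finite
    exact Nat.eq_of_mul_eq_mul_right hpos (by rw [h2, h1, mul_comm])
  rw [h3, hK]
  congr 1
  have h4 := H.card_mul_index
  rw [← h4, Nat.factorization_mul Nat.card_pos.ne' Subgroup.index_ne_zero_of_finite, hH,
    Nat.Prime.factorization_pow hp]
  simp [Finsupp.single_eq_of_ne hne.symm]

/-- The converse of Hall's theorem. -/
theorem isSolvable_of_complements : ∀ (n : ℕ) {G : Type u} [Group G] [Finite G], Nat.card G = n →
    (∀ p : ℕ, p.Prime → ∃ H : Subgroup G, H.index = p ^ (Nat.card G).factorization p) →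
    Group.IsSolvable G := by
  intro n
  induction n using Nat.strong_induction_on with
  | _ n IH =>
  intro G _ _ hn h
  subst hn
  classical
  by_cases h3 : 2 < (Nat.card G).primeFactors.card
  · obtain ⟨a, b, c, ha, hb, hc, hab, hac, hbc⟩ := Finset.two_lt_card_iff.1 h3
    have sub : ∀ p ∈ (Nat.card G).primeFactors, ∀ H : Subgroup G,
        H.index = p ^ (Nat.card G).factorization p → Group.IsSolvable H := by
      intro p hp H hH
      have hpp := Nat.prime_of_mem_primeFactors hp
      refine IH (Nat.card H) ?_ rfl fun q hq => ?_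
      · refine lt_of_le_of_ne (Subgroup.card_le_card_group H) fun he => ?_
        have h4 := Subgroup.eq_top_of_card_eq H he
        rw [h4, Subgroup.index_top] at hH
        have h5 : 0 < (Nat.card G).factorization p :=
          hpp.factorization_pos_of_dvd Nat.card_pos.ne' (Nat.dvd_of_mem_primeFactors hp)
        exact absurd hH (Nat.one_lt_pow h5.ne' hpp.one_lt).ne
      · by_cases hqp : q = p
        · subst hqp
          refine ⟨⊤, ?_⟩
          have h4 := H.card_mul_index
          have h5 : (Nat.card H).factorization q + (Nat.card G).factorization q =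
              (Nat.card G).factorization q := by
            conv_rhs => rw [← h4, Nat.factorization_mul Nat.card_pos.ne'
              Subgroup.index_ne_zero_of_finite, hH, Nat.Prime.factorization_pow hpp]
            simp
          rw [Subgroup.index_top, show (Nat.card H).factorization q = 0 by omega, pow_zero]
        · obtain ⟨K, hK⟩ := h q hq
          exact ⟨K.subgroupOf H, index_inf_subgroupOf hpp hq (Ne.symm hqp) hH hK⟩
    obtain ⟨A, hA⟩ := h a (Nat.prime_of_mem_primeFactors ha)
    obtain ⟨B, hB⟩ := h b (Nat.prime_of_mem_primeFactors hb)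
    obtain ⟨C, hC⟩ := h c (Nat.prime_of_mem_primeFactors hc)
    have pa := Nat.prime_of_mem_primeFactors ha
    have pb := Nat.prime_of_mem_primeFactors hb
    have pc := Nat.prime_of_mem_primeFactors hc
    refine isSolvable_of_three A B C (sub a ha A hA) (sub b hb B hB) (sub c hc C hC)
      (CfsgLib.ComplementSystem.coprime_index_product ?_).2
      (CfsgLib.ComplementSystem.coprime_index_product ?_).2 ?_
    · rw [hA, hB]; exact coprime_pow_index pa pb hab _ _
    · rw [hA, hC]; exact coprime_pow_index pa pc hac _ _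
    · rw [hB, hC]; exact coprime_pow_index pb pc hbc _ _
  · -- at most two primes: Burnside
    obtain ⟨p, q, hp, hq, hsub⟩ : ∃ p q : ℕ, p.Prime ∧ q.Prime ∧
        ∀ r ∈ (Nat.card G).primeFactors, r = p ∨ r = q := by
      rcases Nat.lt_or_ge (Nat.card G).primeFactors.card 2 with h1 | h1
      · rcases (Nat.card G).primeFactors.eq_empty_or_nonempty with h2 | ⟨p, hp⟩
        · exact ⟨2, 2, Nat.prime_two, Nat.prime_two, fun r hr => by simp [h2] at hr⟩
        · exact ⟨p, p, Nat.prime_of_mem_primeFactors hp, Nat.prime_of_mem_primeFactors hp,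
            fun r hr => Or.inl (Finset.card_le_one.1 (Nat.le_of_lt_succ h1) r hr p hp)⟩
      · obtain ⟨p, q, hpq, he⟩ := Finset.card_eq_two.1 (by omega : (Nat.card G).primeFactors.card = 2)
        exact ⟨p, q, Nat.prime_of_mem_primeFactors (by rw [he]; simp),
          Nat.prime_of_mem_primeFactors (by rw [he]; simp), fun r hr => by rw [he] at hr; simpa using hr⟩
    by_cases hpq : p = q
    · subst hpq
      refine CfsgLib.Burnside.isSolvable_of_card_eq hp hp ((Nat.card G).factorization p) 0 ?_
      rw [pow_zero, mul_one]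
      have he := Nat.eq_prime_pow_of_unique_prime_dvd (p := p) (Nat.card_pos (α := G)).ne'
        fun {d} hd hdvd => (hsub d (Nat.mem_primeFactors.2 ⟨hd, hdvd, Nat.card_pos.ne'⟩)).elim id id
      conv_rhs => rw [he, Nat.Prime.factorization_pow hp, Finsupp.single_eq_same]
      exact he
    · refine CfsgLib.Burnside.isSolvable_of_card_eq hp hq ((Nat.card G).factorization p)
        ((Nat.card G).factorization q) ?_
      have hs : (Nat.card G).primeFactors ⊆ {p, q} := fun r hr => by
        rcases hsub r hr with e | e <;> simp [e]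
      conv_lhs => rw [← Nat.prod_factorization_pow_eq_self (Nat.card_pos (α := G)).ne']
      rw [Finsupp.prod, Nat.support_factorization, Finset.prod_subset hs, Finset.prod_pair hpq]
      intro r _ hr
      rw [← Nat.support_factorization, Finsupp.notMem_support_iff] at hr
      rw [hr, pow_zero]

/-- Intersections of a complement system. -/
theorem index_inf_complements {G : Type u} [Group G] [Finite G] {K : Nat.Primes → Subgroup G}
    (hK : Cfsg.IsComplementSystem K) (T : Finset Nat.Primes) :
    (T.inf K).index = ∏ p ∈ T, (p : ℕ) ^ (Nat.card G).factorization p := by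
  classical
  induction T using Finset.induction with
  | empty => simp
  | @insert q T hq ih =>
    rw [Finset.inf_insert, Finset.prod_insert hq]
    have hcop : (K q).index.Coprime (T.inf K).index := by
      rw [hK q, ih]
      exact Nat.Coprime.prod_right fun r hr => coprime_pow_index q.2 r.2
        (fun e => hq ((Subtype.ext e : q = r) ▸ hr)) _ _
    rw [(CfsgLib.ComplementSystem.coprime_index_product hcop).1, hK q, ih]

/-- The primes dividing the order. -/
noncomputable def primesOf (G : Type u) [Group G] : Finset Nat.Primes :=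
  (Nat.card G).primeFactors.subtype Nat.Prime |>.map
    ⟨fun x => ⟨x.1, x.2⟩, fun x y e => Subtype.ext (congrArg Subtype.val e)⟩

theorem mem_primesOf {G : Type u} [Group G] [Finite G] {p : Nat.Primes} :
    p ∈ primesOf G ↔ (p : ℕ) ∣ Nat.card G := by
  simp only [primesOf, Finset.mem_map, Finset.mem_subtype, Function.Embedding.coeFn_mk]
  constructor
  · rintro ⟨x, hx, rfl⟩
    exact Nat.dvd_of_mem_primeFactors hx
  · intro h
    exact ⟨⟨p, p.2⟩, Nat.mem_primeFactors.2 ⟨p.2, h, Nat.card_pos.ne'⟩, rfl⟩

theorem prod_primesOf {G : Type u} [Group G] [Finite G] :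
    ∏ p ∈ primesOf G, (p : ℕ) ^ (Nat.card G).factorization p = Nat.card G := by
  conv_rhs => rw [← Nat.prod_factorization_pow_eq_self (Nat.card_pos (α := G)).ne']
  rw [Finsupp.prod, Nat.support_factorization]
  refine Finset.prod_bij (fun p _ => (p : ℕ)) ?_ ?_ ?_ ?_
  · exact fun p hp => Nat.mem_primeFactors.2 ⟨p.2, mem_primesOf.1 hp, Nat.card_pos.ne'⟩
  · exact fun _ _ _ _ e => Subtype.ext e
  · exact fun b hb => ⟨⟨b, Nat.prime_of_mem_primeFactors hb⟩,
      mem_primesOf.2 (Nat.dvd_of_mem_primeFactors hb), rfl⟩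
  · exact fun _ _ => rfl

/-- A finite solvable group has a Sylow system. -/
theorem exists_sylow_system {G : Type u} [Group G] [Finite G] [Group.IsSolvable G] :
    ∃ S : (p : Nat.Primes) → Sylow (p : ℕ) G,
      ∀ p q : Nat.Primes, (S p : Set G) * (S q : Set G) = (S q : Set G) * (S p : Set G) := by
  classical
  have hK : ∀ p : Nat.Primes, ∃ H : Subgroup G,
      H.index = (p : ℕ) ^ (Nat.card G).factorization p := by
    intro p
    obtain ⟨H, hH⟩ := CfsgLib.Hall.exists_subgroup_card (G := G)
      ((Nat.ordProj_mul_ordCompl_eq_self (Nat.card G) p).symm.trans (mul_comm _ _))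
      ((Nat.coprime_ordCompl p.2 Nat.card_pos.ne').pow_left _).symm
    refine ⟨H, ?_⟩
    have h1 := H.card_mul_index
    have h2 := Nat.ordProj_mul_ordCompl_eq_self (Nat.card G) p
    rw [hH] at h1
    exact Nat.eq_of_mul_eq_mul_left (Nat.ordCompl_pos p Nat.card_pos.ne')
      (h1.trans (h2.symm.trans (mul_comm _ _)))
  choose K hK using hK
  have hcard : ∀ T : Finset Nat.Primes, T ⊆ primesOf G →
      Nat.card ((primesOf G \ T).inf K : Subgroup G) =
        ∏ p ∈ T, (p : ℕ) ^ (Nat.card G).factorization p := by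
    intro T hT
    have h1 := ((primesOf G \ T).inf K).card_mul_index
    rw [index_inf_complements hK] at h1
    have h2 := prod_primesOf (G := G)
    rw [← Finset.prod_sdiff hT] at h2
    refine Nat.eq_of_mul_eq_mul_right ?_ (h1.trans (h2.symm.trans (mul_comm _ _)))
    exact Finset.prod_pos fun p _ => pow_pos p.2.pos _
  have hS : ∀ p : Nat.Primes, ∃ S : Sylow (p : ℕ) G, (p ∈ primesOf G →
      (S : Subgroup G) = (primesOf G \ {p}).inf K) := by
    intro p
    haveI := Fact.mk p.2
    by_cases hp : p ∈ primesOf G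
    · refine ⟨Sylow.ofCard ((primesOf G \ {p}).inf K) ?_, fun _ => rfl⟩
      rw [hcard {p} (Finset.singleton_subset_iff.2 hp), Finset.prod_singleton]
    · exact ⟨default, fun h => absurd h hp⟩
  choose S hS using hS
  refine ⟨S, fun p q => ?_⟩
  haveI := Fact.mk p.2
  haveI := Fact.mk q.2
  by_cases hpq : p = q
  · subst hpq; rfl
  have triv : ∀ r : Nat.Primes, r ∉ primesOf G → (S r : Subgroup G) = ⊥ := by
    intro r hr
    haveI := Fact.mk r.2
    refine Subgroup.eq_bot_of_card_eq _ ?_
    rw [(S r).card_eq_multiplicity,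
      Nat.factorization_eq_zero_of_not_dvd fun h => hr (mem_primesOf.2 h), pow_zero]
  by_cases hp : p ∈ primesOf G
  swap
  · rw [show (S p : Set G) = {1} by
      show ((S p : Subgroup G) : Set G) = _
      rw [triv p hp, Subgroup.coe_bot]]
    simp
  by_cases hq : q ∈ primesOf G
  swap
  · rw [show (S q : Set G) = {1} by
      show ((S q : Subgroup G) : Set G) = _
      rw [triv q hq, Subgroup.coe_bot]]
    simp
  let R := (primesOf G \ {p, q}).inf K
  have hR : Nat.card R = Nat.card (S p : Subgroup G) * Nat.card (S q : Subgroup G) := by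
    rw [hcard {p, q} (Finset.insert_subset_iff.2 ⟨hp, Finset.singleton_subset_iff.2 hq⟩),
      Finset.prod_pair hpq, (S p).card_eq_multiplicity, (S q).card_eq_multiplicity]
  have hpR : (S p : Subgroup G) ≤ R := by
    rw [hS p hp]; exact Finset.inf_mono (Finset.sdiff_subset_sdiff le_rfl (by simp))
  have hqR : (S q : Subgroup G) ≤ R := by
    rw [hS q hq]; exact Finset.inf_mono (Finset.sdiff_subset_sdiff le_rfl (by simp))
  have hd : Disjoint (S p : Subgroup G) (S q : Subgroup G) :=
    IsPGroup.disjoint_of_ne (p : ℕ) q (fun e => hpq (Subtype.ext e)) _ _ (S p).isPGroup' (S q).isPGroup'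
  have both : ∀ A B : Subgroup G, A ≤ R → B ≤ R → Disjoint A B →
      Nat.card A * Nat.card B = Nat.card R → (A : Set G) * (B : Set G) = (R : Set G) := by
    intro A B hA hB hAB hc
    refine Set.eq_of_subset_of_ncard_le ?_ ?_ (Set.toFinite _)
    · rintro _ ⟨a, ha, b, hb, rfl⟩
      exact mul_mem (hA ha) (hB hb)
    · rw [show (R : Set G).ncard = Nat.card R from (Nat.card_coe_set_eq _).symm, ← hc,
        ← Nat.card_prod, ← Nat.card_coe_set_eq]
      refine Nat.card_le_card_of_injective
        (fun x : A × B => (⟨(x.1 : G) * x.2, x.1, x.1.2, x.2, x.2.2, rfl⟩ : ((A : Set G) * (B : Set G) : Set G))) ?_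
      intro x y e
      exact Subgroup.mul_injective_of_disjoint hAB (congrArg Subtype.val e)
  rw [show (S p : Set G) = ((S p : Subgroup G) : Set G) from rfl,
    show (S q : Set G) = ((S q : Subgroup G) : Set G) from rfl, both _ _ hpR hqR hd hR.symm,
    both _ _ hqR hpR hd.symm (by rw [mul_comm, hR])]

/-- Permuting Sylow subgroups give complements for every prime. -/
theorem exists_complement_of_permuting {G : Type u} [Group G] [Finite G]
    (S : (p : Nat.Primes) → Sylow (p : ℕ) G)
    (hS : ∀ p q : Nat.Primes, (S p : Set G) * (S q : Set G) = (S q : Set G) * (S p : Set G))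
    (p : ℕ) (hp : p.Prime) : ∃ H : Subgroup G, H.index = p ^ (Nat.card G).factorization p := by
  classical
  have key : ∀ T : Finset Nat.Primes, ∃ X : Subgroup G,
      Nat.card X = ∏ r ∈ T, (r : ℕ) ^ (Nat.card G).factorization r ∧
      ∀ r : Nat.Primes, (S r : Set G) * (X : Set G) = (X : Set G) * (S r : Set G) := by
    intro T
    induction T using Finset.induction with
    | empty => exact ⟨⊥, by simp, fun r => by simp⟩
    | @insert a T ha ih =>
      obtain ⟨X, hX, hperm⟩ := ih
      haveI := Fact.mk a.2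
      let A := (S a : Subgroup G)
      have hAX : (A : Set G) * (X : Set G) = (X : Set G) * (A : Set G) := hperm a
      let Y : Subgroup G :=
        { carrier := (A : Set G) * (X : Set G)
          one_mem' := ⟨1, one_mem A, 1, one_mem X, one_mul 1⟩
          mul_mem' := by
            intro x y hx hy
            have h1 : x * y ∈ ((A : Set G) * (X : Set G)) * ((A : Set G) * (X : Set G)) :=
              Set.mul_mem_mul hx hy
            rwa [mul_assoc, ← mul_assoc (X : Set G), ← hAX, mul_assoc (A : Set G) (X : Set G),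
              coe_mul_coe, ← mul_assoc, coe_mul_coe] at h1
          inv_mem' := by
            intro x hx
            obtain ⟨a, ha, b, hb, rfl⟩ := hx
            rw [hAX]
            exact ⟨b⁻¹, inv_mem hb, a⁻¹, inv_mem ha, (mul_inv_rev a b).symm⟩ }
      refine ⟨Y, ?_, fun r => ?_⟩
      · have hcopr : (Nat.card A).Coprime (Nat.card X) := by
          rw [(S a).card_eq_multiplicity, hX]
          exact Nat.Coprime.prod_right fun r hr => coprime_pow_index a.2 r.2
            (fun e => ha ((Subtype.ext e : a = r) ▸ hr)) _ _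
        have hd : Disjoint A X := disjoint_iff.2 ((Subgroup.disjoint_of_coprime_natCard hcopr).eq_bot)
        rw [Finset.prod_insert ha, ← hX, ← (S a).card_eq_multiplicity, ← Nat.card_prod]
        refine (Nat.card_eq_of_bijective
          (fun x : A × X => (⟨(x.1 : G) * x.2, x.1, x.1.2, x.2, x.2.2, rfl⟩ : Y)) ⟨?_, ?_⟩).symm
        · intro x y e
          exact Subgroup.mul_injective_of_disjoint hd (congrArg Subtype.val e)
        · rintro ⟨_, u, hu, v, hv, rfl⟩
          exact ⟨(⟨u, hu⟩, ⟨v, hv⟩), rfl⟩
      · show (S r : Set G) * ((A : Set G) * (X : Set G)) = (A : Set G) * (X : Set G) * (S r : Set G)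
        rw [← mul_assoc, show (A : Set G) = (S a : Set G) from rfl, hS r a, mul_assoc, hperm r,
          ← mul_assoc]
  obtain ⟨X, hX, -⟩ := key (primesOf G \ {⟨p, hp⟩})
  refine ⟨X, ?_⟩
  have h1 := X.card_mul_index
  by_cases hpd : p ∣ Nat.card G
  · have h2 := prod_primesOf (G := G)
    rw [← Finset.prod_sdiff (Finset.singleton_subset_iff.2
      (mem_primesOf.2 hpd : (⟨p, hp⟩ : Nat.Primes) ∈ primesOf G))] at h2
    have h3 : ∏ r ∈ ({⟨p, hp⟩} : Finset Nat.Primes), (r : ℕ) ^ (Nat.card G).factorization r =
        p ^ (Nat.card G).factorization p := Finset.prod_singleton _ _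
    erw [h3] at h2
    rw [hX] at h1
    exact Nat.eq_of_mul_eq_mul_left (Finset.prod_pos fun r _ => pow_pos r.2.pos _) (h1.trans h2.symm)
  · have h2 : primesOf G \ {⟨p, hp⟩} = primesOf G :=
      by
      ext r
      simp only [Finset.mem_sdiff, Finset.mem_singleton, and_iff_left_iff_imp]
      intro hr hr'
      have hr2 : r = ⟨p, hp⟩ := Finset.mem_singleton.1 hr'
      have hr3 := mem_primesOf.1 hr
      rw [hr2] at hr3
      exact hpd hr3
    rw [hX, h2, prod_primesOf] at h1
    rw [Nat.factorization_eq_zero_of_not_dvd hpd, pow_zero]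
    exact Nat.eq_of_mul_eq_mul_left (Nat.card_pos (α := G)) (h1.trans (mul_one _).symm)

end CfsgLib.Hall.Converse
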